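import Groth.Agent.KTheory.RegKoszulPush
import Groth.Agent.KTheory.RegKoszulRes
import Groth.Agent.KTheory.PerfCoh
import Groth.Agent.ProjBundleCoh.Vanish
import Groth.Agent.PnCoh.OverAffine
import Groth.Agent.Quot.BCMap
import Groth.Agent.S2427

/-!
# Charts of a projective bundle by relative projective spaces
-/

set_option autoImplicit false
universe u

open CategoryTheory CategoryTheory.Limits AlgebraicGeometry TopologicalSpace Opposite
open Groth.PicAux (pullSec pullSec_map pullSec_comp Basis')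

namespace Groth.KTheory.PBundleK

open Groth.KTheory Groth.KTheory.RegKoszul

/-- A chart of `π : P ⟶ X` over an open of the base. -/
structure Chart {X P : Scheme.{u}} (π : P ⟶ X) (E : X.Modules) (O1 : P.Modules) (n : ℕ) where
  /-- the open of the base -/
  V : X.Opens
  /-- the chart -/
  ψ : KRR.PY n (V : Scheme.{u}) ⟶ P
  isAffine : IsAffineOpen V
  basis : ∃ e : Fin (n + 1) → Γ(E, V), Basis' E V e
  imm : IsOpenImmersion ψ
  w : ψ ≫ π = KRR.pr n (V : Scheme.{u}) ≫ V.ι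
  range : ψ.opensRange = π ⁻¹ᵁ V
  twist : Nonempty ((Scheme.Modules.pullback ψ).obj O1 ≅ Twist.twistOver n (V : Scheme.{u}) 1)

variable {X P : Scheme.{u}} {π : P ⟶ X} {E : X.Modules} {O1 : P.Modules}
  {q : (Scheme.Modules.pullback π).obj E ⟶ O1} {n : ℕ}

instance (c : Chart π E O1 n) : IsOpenImmersion c.ψ := c.imm

instance (c : Chart π E O1 n) [IsNoetherian X] : IsNoetherian (c.V : Scheme.{u}) :=
  { toCompactSpace := isCompact_iff_compactSpace.mp c.isAffine.isCompact }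

theorem exists_chart_bundle (hE : FlatMod.IsFinLocFreeOfRank (n + 1) E)
    (hPB : KRR.IsProjBundle π E O1 q) (x : X) : ∃ c : Chart π E O1 n, x ∈ c.V := by
  obtain ⟨V, e, hV, hx, he⟩ := Groth.LocFree.exists_affine_basis_ofRank hE x
  obtain ⟨r, hr, hrw, ⟨τ⟩⟩ := ProjBundleCoh.exists_iso_projSpace he hPB hV
  let W : P.Opens := π ⁻¹ᵁ V
  let φ : (V : Scheme.{u}) ⟶ Spec (CommRingCat.of Γ(X, V)) := hV.isoSpec.hom
  haveI : IsIso φ := inferInstanceAs (IsIso hV.isoSpec.hom)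
  let p := KRR.projSpaceMap n φ
  have hp : IsPullback p (KRR.pr n (V : Scheme.{u})) (KRR.pr n (Spec (CommRingCat.of Γ(X, V)))) φ :=
    FlatStrata.isPullback_projMap n φ
  haveI : IsIso p := hp.isIso_fst_of_isIso
  let θ := p ≫ (PnCoh.overIso n Γ(X, V)).inv ≫ inv r
  haveI : IsIso θ := inferInstance
  refine ⟨⟨V, θ ≫ W.ι, hV, ⟨e, he⟩, inferInstance, ?_, ?_, ?_⟩, hx⟩
  · have h1 : inv r ≫ W.ι ≫ π = CohB1.ProjSpace.toSpec n Γ(X, V) ≫ hV.fromSpec := by
      rw [← hrw, IsIso.inv_hom_id_assoc]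
    simp only [θ, Category.assoc]
    rw [h1, ← PnCoh.overIso_hom_toBase n Γ(X, V), Category.assoc, Iso.inv_hom_id_assoc, ← Category.assoc]
    refine (congrArg (· ≫ hV.fromSpec) hp.w).trans ?_
    rw [Category.assoc]
    exact congrArg _ hV.isoSpec_hom_fromSpec
  · rw [Scheme.Hom.opensRange_comp_of_isIso, Scheme.Opens.opensRange_ι]
  · obtain ⟨a⟩ := PnCoh.nonempty_pullback_overIso_twist n Γ(X, V) 1
    let e₁ : (Scheme.Modules.pullback (inv r)).obj ((Scheme.Modules.pullback W.ι).obj O1) ≅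
        Twist.twistProjSpace n Γ(X, V) 1 :=
      (Scheme.Modules.pullback (inv r)).mapIso
        (((Scheme.Modules.restrictFunctorIsoPullback W.ι).app O1).symm ≪≫ τ.symm) ≪≫
        (Scheme.Modules.pullbackComp (inv r) r).app _ ≪≫
        (Scheme.Modules.pullbackCongr (IsIso.inv_hom_id r)).app _ ≪≫ (Scheme.Modules.pullbackId _).app _
    let e₂ : (Scheme.Modules.pullback (PnCoh.overIso n Γ(X, V)).inv).obj (Twist.twistProjSpace n Γ(X, V) 1) ≅
        Twist.twistOver n (Spec (CommRingCat.of Γ(X, V))) 1 :=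
      (Scheme.Modules.pullback _).mapIso a.symm ≪≫
        (Scheme.Modules.pullbackComp _ _).app _ ≪≫
        (Scheme.Modules.pullbackCongr (Iso.inv_hom_id _)).app _ ≪≫ (Scheme.Modules.pullbackId _).app _
    let e₃ : (Scheme.Modules.pullback p).obj (Twist.twistOver n (Spec (CommRingCat.of Γ(X, V))) 1) ≅
        Twist.twistOver n (V : Scheme.{u}) 1 :=
      (Scheme.Modules.pullbackComp _ _).app _ ≪≫
        (Scheme.Modules.pullbackCongr ((pullback.lift_fst _ _ _).trans (Category.comp_id _))).app _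
    exact ⟨((Scheme.Modules.pullbackComp θ W.ι).app O1).symm ≪≫
      ((Scheme.Modules.pullbackComp p ((PnCoh.overIso n Γ(X, V)).inv ≫ inv r)).app _).symm ≪≫
      (Scheme.Modules.pullback p).mapIso (((Scheme.Modules.pullbackComp _ (inv r)).app _).symm ≪≫
        (Scheme.Modules.pullback _).mapIso e₁ ≪≫ e₂) ≪≫ e₃⟩

/-! ## Pullback along open immersions -/

section Open

variable {Y Z : Scheme.{u}} (j : Y ⟶ Z) [IsOpenImmersion j]

instance preservesFiniteLimits_pullback_open : PreservesFiniteLimits (Scheme.Modules.pullback j) :=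
  haveI := Groth.CohBase.preservesFiniteLimits_restrictFunctor j
  preservesFiniteLimits_of_natIso (Scheme.Modules.restrictFunctorIsoPullback j)

theorem epi_of_charts {ι : Type*} {Y : ι → Scheme.{u}} (j : ∀ i, Y i ⟶ Z) [∀ i, IsOpenImmersion (j i)]
    (hj : ∀ z : Z, ∃ i, z ∈ (j i).opensRange) {M N : Z.Modules} (φ : M ⟶ N)
    (h : ∀ i, Epi ((Scheme.Modules.pullback (j i)).map φ)) : Epi φ := by
  refine (Groth.QCohMod.epi_iff_stalk φ).mpr ?_
  intro z
  obtain ⟨i, y, rfl⟩ := hj z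
  have := h i
  have h1 : Epi ((Scheme.Modules.restrictFunctor (j i)).map φ) :=
    ((MorphismProperty.epimorphisms _).arrow_mk_iso_iff
      (((Functor.mapArrowFunctor _ _).mapIso (Scheme.Modules.restrictFunctorIsoPullback (j i))).app (Arrow.mk φ))).2 this
  have h2 : Epi ((Groth.QCohMod.stalk (j i y)).map φ) :=
    ((MorphismProperty.epimorphisms _).arrow_mk_iso_iff
      (((Functor.mapArrowFunctor _ _).mapIso (Scheme.Modules.restrictStalkNatIso (j i) y)).app (Arrow.mk φ))).1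
      (inferInstanceAs (Epi ((Groth.QCohMod.stalk y).map ((Scheme.Modules.restrictFunctor (j i)).map φ))))
  exact (AddCommGrpCat.epi_iff_surjective _).1 h2

theorem isZero_of_charts {ι : Type*} {Y : ι → Scheme.{u}} (j : ∀ i, Y i ⟶ Z) [∀ i, IsOpenImmersion (j i)]
    (hj : ∀ z : Z, ∃ i, z ∈ (j i).opensRange) {M : Z.Modules}
    (h : ∀ i, IsZero ((Scheme.Modules.pullback (j i)).obj M)) : IsZero M := by
  rw [Groth.QCohMod.isZero_iff_stalk]
  intro z
  obtain ⟨i, y, rfl⟩ := hj z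
  have h1 := (h i).of_iso ((Scheme.Modules.restrictFunctorIsoPullback (j i)).app M)
  exact ((Groth.QCohMod.stalk y).map_isZero h1).of_iso
    ((Scheme.Modules.restrictStalkNatIso (j i) y).app M).symm

end Open

/-! ## Base change along a chart -/

section BC

variable {T : Scheme.{u}} {j : T ⟶ X} {ψ : KRR.PY n T ⟶ P} (w : ψ ≫ π = KRR.pr n T ≫ j) (M : P.Modules)

/-- `pr^* j^* π_* M ⟶ ψ^* M`. -/
noncomputable def bcPre : (Scheme.Modules.pullback (KRR.pr n T)).obj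
    ((Scheme.Modules.pullback j).obj ((Scheme.Modules.pushforward π).obj M)) ⟶
      (Scheme.Modules.pullback ψ).obj M :=
  (Scheme.Modules.pullbackComp (KRR.pr n T) j).hom.app _ ≫
    (Scheme.Modules.pullbackCongr w.symm).hom.app _ ≫
    (Scheme.Modules.pullbackComp ψ π).inv.app _ ≫
    (Scheme.Modules.pullback ψ).map ((Scheme.Modules.pullbackPushforwardAdjunction π).counit.app M)

/-- `j^* π_* M ⟶ pr_* ψ^* M`. -/
noncomputable def bcG : (Scheme.Modules.pullback j).obj ((Scheme.Modules.pushforward π).obj M) ⟶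
    (Scheme.Modules.pushforward (KRR.pr n T)).obj ((Scheme.Modules.pullback ψ).obj M) :=
  ((Scheme.Modules.pullbackPushforwardAdjunction (KRR.pr n T)).homEquiv _ _) (bcPre w M)

theorem bcG_counit : (Scheme.Modules.pullback (KRR.pr n T)).map (bcG w M) ≫
    (Scheme.Modules.pullbackPushforwardAdjunction (KRR.pr n T)).counit.app _ = bcPre w M := by
  refine Eq.trans ?_ (Equiv.symm_apply_apply
    ((Scheme.Modules.pullbackPushforwardAdjunction (KRR.pr n T)).homEquiv _ _) (bcPre w M))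
  rw [Adjunction.homEquiv_counit]
  rfl

theorem bcG_pullSec {V : X.Opens} (s : Γ(M, π ⁻¹ᵁ V))
    (hle : KRR.pr n T ⁻¹ᵁ (j ⁻¹ᵁ V) ≤ ψ ⁻¹ᵁ (π ⁻¹ᵁ V)) :
    (bcG w M).app (j ⁻¹ᵁ V) (pullSec j ((Scheme.Modules.pushforward π).obj M)
        (s : Γ((Scheme.Modules.pushforward π).obj M, V))) =
      (Groth.QCohMod.res ((Scheme.Modules.pullback ψ).obj M) hle (pullSec ψ M s) :
        Γ((Scheme.Modules.pullback ψ).obj M, KRR.pr n T ⁻¹ᵁ (j ⁻¹ᵁ V))) := by
  let π₁ := KRR.pr n T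
  let N := (Scheme.Modules.pushforward π).obj M
  let cu := (Scheme.Modules.pullbackPushforwardAdjunction π).counit.app M
  let s' : Γ(N, V) := s
  unfold bcG bcPre
  rw [Adjunction.homEquiv_unit]
  change ((Scheme.Modules.pullback ψ).map cu).app (π₁ ⁻¹ᵁ (j ⁻¹ᵁ V))
    (((Scheme.Modules.pullbackComp ψ π).inv.app N).app (π₁ ⁻¹ᵁ (j ⁻¹ᵁ V))
      (((Scheme.Modules.pullbackCongr w.symm).hom.app N).app (π₁ ⁻¹ᵁ (j ⁻¹ᵁ V))
        (((Scheme.Modules.pullbackComp π₁ j).hom.app N).app (π₁ ⁻¹ᵁ (j ⁻¹ᵁ V))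
          (pullSec π₁ _ (pullSec j N s'))))) = _
  have e1 := pullSec_comp π₁ j N s'
  have e2 := CohCmpLib.pullbackCongr_pullSec w.symm N s'
  have e3 : ((Scheme.Modules.pullbackComp ψ π).inv.app N).app (ψ ⁻¹ᵁ (π ⁻¹ᵁ V))
      (pullSec (ψ ≫ π) N s') = pullSec ψ _ (pullSec π N s') := by
    rw [← pullSec_comp ψ π N s']
    exact congr(($(Iso.hom_inv_id_app (Scheme.Modules.pullbackComp ψ π) N)).app _
      (pullSec ψ _ (pullSec π N s')))
  refine (congrArg (fun v : Γ((Scheme.Modules.pullback (π₁ ≫ j)).obj N, π₁ ⁻¹ᵁ (j ⁻¹ᵁ V)) =>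
    ((Scheme.Modules.pullback ψ).map cu).app (π₁ ⁻¹ᵁ (j ⁻¹ᵁ V))
      (((Scheme.Modules.pullbackComp ψ π).inv.app N).app (π₁ ⁻¹ᵁ (j ⁻¹ᵁ V))
        (((Scheme.Modules.pullbackCongr w.symm).hom.app N).app (π₁ ⁻¹ᵁ (j ⁻¹ᵁ V)) v))) e1).trans ?_
  refine (congrArg (fun v : Γ((Scheme.Modules.pullback (ψ ≫ π)).obj N, π₁ ⁻¹ᵁ (j ⁻¹ᵁ V)) =>
    ((Scheme.Modules.pullback ψ).map cu).app (π₁ ⁻¹ᵁ (j ⁻¹ᵁ V))
      (((Scheme.Modules.pullbackComp ψ π).inv.app N).app (π₁ ⁻¹ᵁ (j ⁻¹ᵁ V)) v)) e2).trans ?_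
  have hle' : π₁ ⁻¹ᵁ (j ⁻¹ᵁ V) ≤ (ψ ≫ π) ⁻¹ᵁ V := hle
  refine (congrArg (((Scheme.Modules.pullback ψ).map cu).app (π₁ ⁻¹ᵁ (j ⁻¹ᵁ V)))
    ((Groth.QCohMod.res_app ((Scheme.Modules.pullbackComp ψ π).inv.app N) hle' _).symm.trans
      (congrArg (Groth.QCohMod.res _ hle) e3))).trans ?_
  refine (Groth.QCohMod.res_app ((Scheme.Modules.pullback ψ).map cu) hle _).symm.trans ?_
  refine congrArg (Groth.QCohMod.res _ hle) ?_
  refine (pullSec_map ψ cu (pullSec π N s')).trans ?_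
  exact congrArg (pullSec ψ M) (Ega2Proj.counit_pullSec π M V s)

theorem isIso_bcG [IsOpenImmersion j] [IsOpenImmersion ψ] (hr : ψ.opensRange = π ⁻¹ᵁ j.opensRange) :
    IsIso (bcG w M) := by
  rw [Scheme.Modules.Hom.isIso_iff_isIso_app]
  intro W
  rw [ConcreteCategory.isIso_iff_bijective]
  obtain ⟨V, hV, rfl⟩ : ∃ V, V ≤ j.opensRange ∧ j ⁻¹ᵁ V = W :=
    ⟨j ''ᵁ W, j.image_le_opensRange W, j.preimage_image_eq W⟩
  have he : KRR.pr n T ⁻¹ᵁ (j ⁻¹ᵁ V) = ψ ⁻¹ᵁ (π ⁻¹ᵁ V) := by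
    rw [← Scheme.Hom.comp_preimage, ← Scheme.Hom.comp_preimage, w]
  have h1 := pullSec_bijective_of_le_range j ((Scheme.Modules.pushforward π).obj M) hV
  have h2 := pullSec_bijective_of_le_range ψ M (U := π ⁻¹ᵁ V) (hr ▸ π.preimage_mono hV)
  have h3 : Function.Bijective (Groth.QCohMod.res ((Scheme.Modules.pullback ψ).obj M) he.le) :=
    ⟨fun a b h => by
      have := congrArg (Groth.QCohMod.res _ he.ge) h
      rwa [Groth.QCohMod.res_res, Groth.QCohMod.res_res, Groth.QCohMod.res_self, Groth.QCohMod.res_self] at this,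
      fun b => ⟨Groth.QCohMod.res _ he.ge b, by rw [Groth.QCohMod.res_res, Groth.QCohMod.res_self]⟩⟩
  refine (Function.Bijective.of_comp_iff _ h1).1 ?_
  have h := h3.comp h2
  exact (congrArg Function.Bijective (funext fun s => bcG_pullSec w M s he.le)).mpr h

end BC

/-- Base change for a chart. -/
theorem Chart.isIso_bcG (c : Chart π E O1 n) (M : P.Modules) : IsIso (bcG c.w M) :=
  PBundleK.isIso_bcG c.w M (by rw [c.range, Scheme.Opens.opensRange_ι])

/-! ## Twists -/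

/-- `F ↦ O1^{⊗a} ⊗ F`. -/
noncomputable abbrev twA (O1 : P.Modules) (a : ℕ) (F : P.Modules) : P.Modules :=
  CohB1.tensorMod (CohB1.tensorPow O1 a) F

theorem Chart.nonempty_pow (c : Chart π E O1 n) (a : ℕ) :
    Nonempty ((Scheme.Modules.pullback c.ψ).obj (CohB1.tensorPow O1 a) ≅
      Twist.twistOver n (c.V : Scheme.{u}) (a : ℤ)) := by
  obtain ⟨e₁⟩ := PicAux.pullback_tensorPow c.ψ O1 a
  obtain ⟨e₂⟩ := c.twist
  obtain ⟨e₃⟩ := PicAux.nonempty_tensorPow_iso e₂ a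
  obtain ⟨e₄⟩ := Agent.S2427.nonempty_tensorPow_twistOver n (c.V : Scheme.{u}) a
  exact ⟨e₁ ≪≫ e₃ ≪≫ e₄⟩

theorem Chart.nonempty_twA (c : Chart π E O1 n) (a : ℕ) (F : P.Modules) :
    Nonempty ((Scheme.Modules.pullback c.ψ).obj (twA O1 a F) ≅
      KRR.twF n (c.V : Scheme.{u}) (a : ℤ) ((Scheme.Modules.pullback c.ψ).obj F)) :=
  ⟨(PicAux.exists_pullback_tensorMod c.ψ _ _).choose ≪≫
    PicGrp.tensorModIso (c.nonempty_pow a).some (Iso.refl _)⟩

theorem Chart.nonempty_inv_pow (c : Chart π E O1 n) {L : P.Modules} (hL : ClSub.IsInverseOf O1 L) (a : ℕ) :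
    Nonempty ((Scheme.Modules.pullback c.ψ).obj (CohB1.tensorPow L a) ≅
      Twist.twistOver n (c.V : Scheme.{u}) (-(a : ℤ))) := by
  obtain ⟨z⟩ := RegSheaf.nonempty_structure_of_idem
    (RegSheaf.isInvertible_twistOver n (c.V : Scheme.{u}) 0)
    (by simpa using RegSheaf.nonempty_twistOver_add n (c.V : Scheme.{u}) 0 0)
  obtain ⟨e⟩ := RegSheaf.nonempty_twistOver_add n (c.V : Scheme.{u}) (a : ℤ) (-(a : ℤ))
  rw [add_neg_cancel] at e
  obtain ⟨e'⟩ := PicAux.isInverseOf_pullback c.ψ (PicAux.isInverseOf_tensorPow hL a)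
  exact PicAux.isInverseOf_unique (L := Twist.twistOver n (c.V : Scheme.{u}) (a : ℤ))
    ⟨PicGrp.tensorModIso (c.nonempty_pow a).some.symm (Iso.refl _) ≪≫ e'⟩ ⟨e ≪≫ z⟩

/-- A finite family of charts covering the base. -/
structure Atlas (π : P ⟶ X) (E : X.Modules) (O1 : P.Modules) (n : ℕ) where
  /-- the index -/
  ι : Type u
  [fin : Fintype ι]
  /-- the charts -/
  c : ι → Chart π E O1 n
  cover : ∀ x : X, ∃ i, x ∈ (c i).V

instance (A : Atlas π E O1 n) : Fintype A.ι := A.fin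

theorem exists_atlas [CompactSpace X] (hE : FlatMod.IsFinLocFreeOfRank (n + 1) E)
    (hPB : KRR.IsProjBundle π E O1 q) : Nonempty (Atlas π E O1 n) := by
  choose c hc using exists_chart_bundle hE hPB
  obtain ⟨s, hs⟩ := isCompact_univ.elim_finite_subcover (fun x : X => ((c x).V : Set X))
    (fun x => (c x).V.2) fun x _ => Set.mem_iUnion.2 ⟨x, hc x⟩
  refine ⟨⟨{x // x ∈ s}, fun i => c i.1, fun x => ?_⟩⟩
  obtain ⟨y, hy, hxy⟩ := Set.mem_iUnion₂.1 (hs (Set.mem_univ x))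
  exact ⟨⟨y, hy⟩, hxy⟩

theorem Atlas.mem_range (A : Atlas π E O1 n) (p : P) : ∃ i, p ∈ (A.c i).ψ.opensRange := by
  obtain ⟨i, hi⟩ := A.cover (π p)
  exact ⟨i, by rw [(A.c i).range]; exact hi⟩

end Groth.KTheory.PBundleK
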