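import Groth.Agent.KTheory.RegKoszulPush
import Groth.Agent.KTheory.KvbModel
import Groth.Agent.CohTwo.HomTensorCorep
import Groth.Agent.SheafExt.Restrict

/-!
# Acyclic twists on projective space; duals of free modules
-/

set_option autoImplicit false
universe u

open CategoryTheory CategoryTheory.Limits AlgebraicGeometry TopologicalSpace Opposite
open Groth.PicAux (Basis' Split' oneSec toFun res)

namespace Groth.KTheory.PBundleK

open Groth.KTheory Groth.KTheory.RegKoszul Groth.CohBase

section Free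

variable {X : Scheme.{u}} {m : ℕ}

theorem sum_app' {ι : Type*} (s : Finset ι) {M N : X.Modules} (f : ι → (M ⟶ N)) (U : X.Opens) (z : Γ(M, U)) :
    (∑ i ∈ s, f i).app U z = ∑ i ∈ s, (f i).app U z := by
  classical
  induction s using Finset.induction_on with
  | empty => rfl
  | insert a s ha ih => rw [Finset.sum_insert ha, Finset.sum_insert ha, ← ih]; rfl

theorem nonempty_iso_of_split {M N : X.Modules} (d : Split' m M) (d' : Split' m N) : Nonempty (M ≅ N) := by
  have key : ∀ {A B : X.Modules} (a : Split' m A) (b : Split' m B),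
      (∑ i, a.p i ≫ b.s i) ≫ (∑ i, b.p i ≫ a.s i) = 𝟙 A := fun {A B} a b => by
    rw [Preadditive.sum_comp, ← a.total]
    refine Finset.sum_congr rfl fun i _ => ?_
    rw [Preadditive.comp_sum, Finset.sum_eq_single i]
    · rw [Category.assoc, ← Category.assoc (b.s i), b.diag, Category.id_comp]
    · intro j _ hji
      rw [Category.assoc, ← Category.assoc (b.s i), b.off i j (Ne.symm hji), Limits.zero_comp, Limits.comp_zero]
    · simp
  exact ⟨⟨_, _, key d d', key d' d⟩⟩

theorem nonempty_dual_split {M : X.Modules} [M.IsQuasicoherent] (d : Split' m M) :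
    Nonempty (CohTwo.LocFreeDual.dual M ≅ FlatMod.freeMod X m) := by
  let e : Fin m → Γ(CohTwo.LocFreeDual.dual M, ⊤) := fun i => RefHull.ofHom (d.p i) ⊤
  have hres : ∀ (W : X.Opens) (i : Fin m) (z : Γ(M, W)),
      RefRank.secToLin (res (CohTwo.LocFreeDual.dual M) (le_top : W ≤ ⊤) (e i)) z = (d.p i).app W z := fun W i z => by
    refine RefRank.mod_section_ext _ fun x hx => ?_
    rw [RefRank.germ_secToLin]
    exact RefHull.stalkMapₗ_germ (d.p i) x hx z
  have hsum : ∀ (W : X.Opens) (r : Fin m → Γ(X, W)) (z : Γ(M, W)),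
      RefRank.secToLin (∑ i, r i • res (CohTwo.LocFreeDual.dual M) (le_top : W ≤ ⊤) (e i)) z =
        ∑ i, r i • (d.p i).app W z := fun W r z => by
    classical
    have : ∀ s : Finset (Fin m),
        RefRank.secToLin (∑ i ∈ s, r i • res (CohTwo.LocFreeDual.dual M) (le_top : W ≤ ⊤) (e i)) z =
          ∑ i ∈ s, r i • (d.p i).app W z := fun s => by
      induction s using Finset.induction_on with
      | empty =>
        rw [Finset.sum_empty, Finset.sum_empty]
        refine RefRank.mod_section_ext _ fun x hx => ?_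
        rw [RefRank.germ_secToLin, map_zero]
        rfl
      | insert a s ha ih =>
        rw [Finset.sum_insert ha, Finset.sum_insert ha, RefRank.secToLin_add, LinearMap.add_apply, ih,
          RefRank.secToLin_smul, LinearMap.smul_apply, hres]
    exact this _
  have hb : Basis' (CohTwo.LocFreeDual.dual M) ⊤ e := by
    intro W hW
    let σ : Fin m → Γ(M, W) := fun j => (d.s j).app W (oneSec X W)
    have hps : ∀ i j, (d.p i).app W (σ j) = if j = i then oneSec X W else 0 := fun i j => by
      by_cases h : j = i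
      · subst h
        rw [if_pos rfl]
        exact congr(($(d.diag j)).app W (oneSec X W))
      · rw [if_neg h]
        exact congr(($(d.off j i h)).app W (oneSec X W))
    have hev : ∀ (r : Fin m → Γ(X, W)) j,
        toFun (RefRank.secToLin (∑ i, r i • res (CohTwo.LocFreeDual.dual M) hW (e i)) (σ j)) = r j := fun r j => by
      rw [hsum, Finset.sum_eq_single j]
      · rw [hps, if_pos rfl, PicAux.toFun_smul, PicAux.toFun_oneSec, mul_one]
      · intro i _ hij
        rw [hps, if_neg (Ne.symm hij), smul_zero]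
      · simp
    refine ⟨fun r r' h => funext fun j => ?_, fun g => ⟨fun i => toFun (RefRank.secToLin g (σ i)), ?_⟩⟩
    · rw [← hev r j, ← hev r' j]
      exact congrArg (fun t => toFun (RefRank.secToLin t (σ j))) h
    refine RefRank.hom_ext_sec fun ⟨x, hx⟩ => ?_
    obtain ⟨U, hU, hxU, hUW'⟩ := exists_isAffineOpen_mem_and_subset (U := W) (x := x) hx
    have hUW : U ≤ W := hUW'
    refine RefRank.stalkHom_ext hU hxU fun z => ?_
    have hz : z = ∑ i, toFun ((d.p i).app U z) • Groth.QCohMod.res M hUW (σ i) := by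
      have h := congr(($(d.total)).app U z)
      rw [sum_app'] at h
      refine h.symm.trans (Finset.sum_congr rfl fun i _ => ?_)
      refine (PicAux.hom_structure_apply (d.s i) U _).trans ?_
      congr 1
      show PicAux.res M le_top ((d.s i).app ⊤ (oneSec X ⊤)) = PicAux.res M hUW ((d.s i).app W (oneSec X W))
      rw [← PicAux.app_res, ← PicAux.app_res, PicAux.res_oneSec, PicAux.res_oneSec]
    rw [hz, map_sum, map_sum, map_sum]
    refine Finset.sum_congr rfl fun i _ => ?_
    rw [Groth.QCohMod.germ_smul, map_smul, map_smul, Groth.QCohMod.germ_res]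
    congr 1
    rw [← RefRank.germ_secToLin, ← RefRank.germ_secToLin]
    refine congrArg (Groth.QCohMod.germ _ x hx) ?_
    have h1 := hev (fun i => toFun (RefRank.secToLin g (σ i))) i
    exact h1
  obtain ⟨d₁, -⟩ := hb.exists_split
  obtain ⟨d₂⟩ := PicAux.exists_split_free (X := X) m
  exact nonempty_iso_of_split d₁ d₂

/-- The dual of a module which is free on an open is free there. -/
theorem nonempty_pullback_dual {Y : Scheme.{u}} (j : Y ⟶ X) [IsOpenImmersion j] (M : X.Modules)
    [M.IsQuasicoherent] (d : Split' m ((Scheme.Modules.pullback j).obj M)) :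
    Nonempty ((Scheme.Modules.pullback j).obj (CohTwo.LocFreeDual.dual M) ≅ FlatMod.freeMod Y m) := by
  haveI := Groth.SitesTopoi.ModH.hasSheafHom (O := X.sheaf) M
  haveI := CohTwo.LocFreeExt.hasSheafHom M
  haveI := Groth.SitesTopoi.ModH.hasSheafHom (O := Y.sheaf) (M.restrict j)
  haveI := CohTwo.LocFreeExt.hasSheafHom (M.restrict j)
  let e := (Scheme.Modules.restrictFunctorIsoPullback j).app M
  haveI : (M.restrict j).IsQuasicoherent := inferInstance
  let d' : Split' m (M.restrict j) :=
    { s := fun i => d.s i ≫ e.inv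
      p := fun i => e.hom ≫ d.p i
      diag := fun i => by simp [d.diag]
      off := fun i k h => by simp [d.off i k h]
      total := by
        have h := congrArg (fun f => e.hom ≫ f ≫ e.inv) d.total
        simpa [Preadditive.comp_sum, Preadditive.sum_comp] using h }
  let eR : (Scheme.Modules.pullback j).obj (Coh.structureModule X) ≅ Coh.structureModule Y :=
    (PicAux.pullback_structure_iso j).some
  exact ⟨((Scheme.Modules.restrictFunctorIsoPullback j).app _).symm ≪≫
    (Scheme.Modules.restrictFunctor j).mapIso (CohTwo.LocFreeExt.msDualIso M).symm ≪≫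
    (SheafExt.sheafHomRestrictIso j M).app (Coh.structureModule X) ≪≫
    (ModSite.sheafHom (O := Y.sheaf) (M.restrict j) : Y.Modules ⥤ Y.Modules).mapIso
      ((Scheme.Modules.restrictFunctorIsoPullback j).app _ ≪≫ eR) ≪≫
    CohTwo.LocFreeExt.msDualIso (M.restrict j) ≪≫ (nonempty_dual_split d').some⟩

end Free

section Dat

variable {n : ℕ} {T : Scheme.{u}}

/-- `M(a)` is acyclic in degree `q` for `a ≥ d + 1 - q`. -/
def Dat (n : ℕ) (T : Scheme.{u}) (d : ℕ) (M : (KRR.PY n T).Modules) : Prop :=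
  FlatMod.IsFinLocFree M ∧ ∀ q a : ℕ, 1 ≤ q → d + 1 ≤ a + q → RegSheaf.Van n T (KRR.twF n T (a : ℤ) M) q

theorem Dat.of_iso {d : ℕ} {M N : (KRR.PY n T).Modules} (e : M ≅ N) (h : Dat n T d M) : Dat n T d N :=
  ⟨LocFree.isFinLocFree_of_iso e h.1, fun q a hq ha => (h.2 q a hq ha).of_iso (twF_iso (a : ℤ) e).some⟩

theorem Dat.mono {d d' : ℕ} (hd : d ≤ d') {M : (KRR.PY n T).Modules} (h : Dat n T d M) : Dat n T d' M :=
  ⟨h.1, fun q a hq ha => h.2 q a hq (by omega)⟩

theorem dat_isZero {d : ℕ} {Z : (KRR.PY n T).Modules} (hZ : IsZero Z) : Dat n T d Z :=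
  ⟨LocFree.isFinLocFree_zero hZ, fun q a _ _ V _ => HV.of_isZero
    (((DCoh.tensorBi (X := KRR.PY n T)).obj (Twist.twistOver n T (a : ℤ))).map_isZero hZ) q⟩

theorem Dat.middle {d : ℕ} {S : ShortComplex (KRR.PY n T).Modules} (hS : S.ShortExact)
    (h₂ : FlatMod.IsFinLocFree S.X₂) (h₁ : Dat n T d S.X₁) (h₃ : Dat n T d S.X₃) : Dat n T d S.X₂ :=
  ⟨h₂, fun q a hq ha V hV => by
    have hA := h₁.2 q a hq ha V hV
    have hC := h₃.2 q a hq ha V hV
    refine subsingleton_of_forall_eq 0 fun x => ?_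
    obtain ⟨y, hy⟩ := Abelian.Ext.covariant_sequence_exact₂ (freeOpen (KRR.pr n T ⁻¹ᵁ V))
      (shortExact_toAb (RegSheaf.shortExact_tw S hS (LocFree.isQCoh h₁.1) (LocFree.isQCoh h₂)
        (LocFree.isQCoh h₃.1) (a : ℤ))) x (hC.elim _ _)
    have hy0 : y = 0 := hA.elim _ _
    rw [← hy, hy0, Abelian.Ext.zero_comp]
    rfl⟩

theorem Dat.right {d : ℕ} {S : ShortComplex (KRR.PY n T).Modules} (hS : S.ShortExact)
    (h₃ : FlatMod.IsFinLocFree S.X₃) (h₁ : Dat n T (d + 1) S.X₁) (h₂ : Dat n T d S.X₂) : Dat n T d S.X₃ :=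
  ⟨h₃, fun q a hq ha V hV =>
    hVanish_third (shortExact_toAb (RegSheaf.shortExact_tw S hS (LocFree.isQCoh h₁.1) (LocFree.isQCoh h₂.1)
        (LocFree.isQCoh h₃) (a : ℤ)))
      (h₁.2 (q + 1) a (by omega) (by omega) V hV) (h₂.2 q a hq ha V hV)⟩

theorem Dat.twist {d : ℕ} {M : (KRR.PY n T).Modules} (h : Dat n T (d + 1) M) :
    Dat n T d (KRR.twF n T 1 M) :=
  ⟨isFinLocFree_twF 1 h.1, fun q a hq ha => (h.2 q (a + 1) hq (by omega)).of_iso
    (RegSheaf.nonempty_twF_twF n T (a : ℤ) 1 _ (by push_cast; ring) M).some.symm⟩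

theorem Dat.tensor_free {d : ℕ} {M : (KRR.PY n T).Modules} (h : Dat n T d M) :
    ∀ m : ℕ, Dat n T d (CohB1.tensorMod M (FlatMod.freeMod (KRR.PY n T) m))
  | 0 => dat_isZero (((DCoh.tensorBi (X := KRR.PY n T)).obj M).map_isZero
      (KvbModel.isZero_of_rank_zero (Groth.LocFree.isFinLocFreeOfRank_freeMod _ 0)))
  | m + 1 => by
    let X := KRR.PY n T
    let O := Coh.structureModule X
    let S : ShortComplex X.Modules := ShortComplex.mk
      (Sigma.ι (fun _ : Fin (m + 1) => O) (Fin.last m) : O ⟶ FlatMod.freeMod X (m + 1))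
      (Sigma.desc (Fin.lastCases (motive := fun _ => O ⟶ FlatMod.freeMod X m) 0
        fun i => Sigma.ι (fun _ : Fin m => O) i)) (by simp [O])
    have hS : S.ShortExact := ShortComplex.Splitting.shortExact
      { r := Sigma.desc (Fin.lastCases (motive := fun _ => O ⟶ O) (𝟙 O) fun _ => 0)
        s := Sigma.desc fun i => Sigma.ι (fun _ : Fin (m + 1) => O) i.castSucc
        f_r := by simp [S, O]
        s_g := Sigma.hom_ext _ _ fun i => by simp [S, O]
        id := Sigma.hom_ext _ _ fun i => by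
          induction i using Fin.lastCases with
          | last => simp [S, O]
          | cast k => simp [S, O] }
    haveI : S.X₁.IsQuasicoherent := LocFree.isQCoh (Groth.LocFree.isFinLocFree_unit X)
    haveI : S.X₂.IsQuasicoherent := LocFree.isQCoh (Groth.LocFree.isFinLocFree_freeMod X _)
    haveI : S.X₃.IsQuasicoherent := LocFree.isQCoh (Groth.LocFree.isFinLocFree_freeMod X _)
    exact Dat.middle (LambdaVb.shortExact_tensor h.1 hS)
      (Groth.LocFree.isFinLocFree_tensorMod h.1 (Groth.LocFree.isFinLocFree_freeMod X _))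
      (h.of_iso (SecTwist.unitorR M).symm) (Dat.tensor_free h m)

theorem Dat.acyP {M : (KRR.PY n T).Modules} (h : Dat n T 0 M) : AcyP n T M :=
  ⟨h.1, fun q hq => (h.2 q 0 hq (by omega)).of_iso (RegSheaf.nonempty_twF_zero n T M).some⟩

theorem exists_dat [IsNoetherian T] {M : (KRR.PY n T).Modules} (hM : FlatMod.IsFinLocFree M) :
    ∃ d, Dat n T d M := by
  obtain ⟨d, hd⟩ := exists_regAt hM
  refine ⟨d, hM, fun q a hq ha => ?_⟩
  exact (van_of_regular (RegSheaf.isQCoh_twF _ (LocFree.isQCoh hM)) hd.2 hq (r := (a : ℤ) - d) (by omega)).of_iso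
    (RegSheaf.nonempty_twF_twF n T _ (d : ℤ) (a : ℤ) (by ring) M).some

theorem dat_of_regular {M : (KRR.PY n T).Modules} (hM : FlatMod.IsFinLocFree M)
    (h : KRR.IsRegSheaf n T M) : Dat n T 0 M :=
  ⟨hM, fun q a hq _ => van_of_regular (LocFree.isQCoh hM) h hq (by omega)⟩

theorem dat_twist_pullback {E : T.Modules} (hE : FlatMod.IsFinLocFree E) {i : ℕ} (hi : i ≤ n) :
    Dat n T 0 (KRR.twF n T (-(i : ℤ)) ((Scheme.Modules.pullback (KRR.pr n T)).obj E)) :=
  ⟨isFinLocFree_twF _ (Groth.LocFree.isFinLocFree_pullback _ hE), fun q a hq _ =>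
    (van_twF_pullback E (LocFree.isQCoh hE) hq (d := (a : ℤ) + -(i : ℤ)) (Or.inl (by omega))).of_iso
      (RegSheaf.nonempty_twF_twF n T _ _ _ rfl _).some.symm⟩

end Dat

end Groth.KTheory.PBundleK
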