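import Groth.Agent.CohTwo.HomTensorCorep
import Groth.Agent.LocFree.Hom
import Groth.Agent.KTheory.ExtFiltSheaf

/-!
# The embedding `O ⟶ Hom(M, N)` of a surjection onto an invertible module
-/

set_option autoImplicit false
universe u

open CategoryTheory CategoryTheory.Limits AlgebraicGeometry TopologicalSpace Opposite

namespace Groth.KTheory.PBundleK

open Groth.PicAux (oneSec toFun res Basis')
open Groth.RefRank (secToLin)

variable {P : Scheme.{u}} {M N : P.Modules} (q : M ⟶ N)

/-- `O ⟶ Hom(M, N)`, `1 ↦ q`. -/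
noncomputable def emb : Coh.structureModule P ⟶ RefHull.homSh M N :=
  (Groth.CohTwo.HomTensor.homOEquiv _).symm (RefHull.ofHom q ⊤)

theorem emb_one (U : P.Opens) : (emb q).app U (oneSec P U) = RefHull.ofHom q U := by
  have h : (emb q).app ⊤ (oneSec P ⊤) = RefHull.ofHom q ⊤ :=
    (Groth.CohTwo.HomTensor.homOEquiv (RefHull.homSh M N)).apply_symm_apply _
  have e : Groth.QCohMod.res (Coh.structureModule P) (le_top : U ≤ ⊤) (oneSec P ⊤) = oneSec P U :=
    map_one (P.presheaf.map (homOfLE (le_top : U ≤ ⊤)).op).hom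
  rw [← e, ← Groth.QCohMod.res_app, h]
  exact Groth.RefRank.hom_ext_sec fun x => rfl

theorem secToLin_emb (U : P.Opens) (a : Γ(Coh.structureModule P, U)) (m : Γ(M, U)) :
    secToLin ((emb q).app U a) m = toFun a • q.app U m := by
  have ha : a = toFun a • oneSec P U := (mul_one (toFun a)).symm
  conv_lhs => rw [ha, Scheme.Modules.Hom.app_smul, emb_one, Groth.RefRank.secToLin_smul]
  rw [LinearMap.smul_apply]
  refine congrArg (toFun a • ·) (Groth.RefRank.mod_section_ext N fun x hx => ?_)
  rw [Groth.RefRank.germ_secToLin]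
  exact RefHull.stalkMapₗ_germ q x hx m

variable [Epi q] (hM : FlatMod.IsFinLocFree M) (hN : FlatMod.IsFinLocFreeOfRank 1 N)

include hM hN

theorem exists_local (x : P) : ∃ (U : P.Opens) (g : Γ(N, U)) (m : Γ(M, U)), IsAffineOpen U ∧ x ∈ U ∧
    q.app U m = g ∧
    ∀ (W : P.Opens) (h : W ≤ U), Function.Bijective fun r : Γ(P, W) => r • res N h g := by
  haveI := KTheory.LocFree.isQCoh hM
  haveI := KTheory.LocFree.isQCoh (Groth.LocFree.isFinLocFree_of_rank hN)
  obtain ⟨U, s, hU, hx, hs⟩ := Groth.LocFree.exists_affine_basis_ofRank hN x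
  obtain ⟨m, hm⟩ := Groth.QCohMod.app_surjective_of_epi q hU (s 0)
  refine ⟨U, s 0, m, hU, hx, hm, fun W h => ?_⟩
  have hb := hs W h
  simp only [Fin.sum_univ_one] at hb
  exact hb.comp (Equiv.funUnique (Fin 1) Γ(P, W)).symm.bijective

theorem mono_emb : Mono (emb q) := by
  refine ⟨fun a b h => Scheme.Modules.hom_ext _ _ fun W => AddCommGrpCat.ext fun z => ?_⟩
  have h' : (emb q).app W (a.app W z) = (emb q).app W (b.app W z) := congr(($h).app W z)
  refine Groth.RefRank.mod_section_ext (Coh.structureModule P) fun x hx => ?_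
  obtain ⟨U, g, m, -, hxU, hm, hg⟩ := exists_local q hM hN x
  have h1 := congrArg (Groth.QCohMod.res (RefHull.homSh M N) (inf_le_left : W ⊓ U ≤ W)) h'
  rw [Groth.QCohMod.res_app, Groth.QCohMod.res_app] at h1
  have h2 := congrArg (fun t => secToLin t (res M (inf_le_right : W ⊓ U ≤ U) m)) h1
  simp only [secToLin_emb, Groth.QCohMod.res_app] at h2
  rw [Groth.PicAux.app_res, hm] at h2
  have h3 := (hg (W ⊓ U) inf_le_right).1 h2
  rw [← Groth.QCohMod.germ_res (Coh.structureModule P) (inf_le_left : W ⊓ U ≤ W) x ⟨hx, hxU⟩,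
    ← Groth.QCohMod.germ_res (Coh.structureModule P) (inf_le_left : W ⊓ U ≤ W) x ⟨hx, hxU⟩]
  rw [Groth.QCohMod.res_app, Groth.QCohMod.res_app]
  exact congrArg _ h3

theorem shortExact_emb :
    (ShortComplex.mk (emb q) (cokernel.π (emb q)) (cokernel.condition _)).ShortExact := by
  haveI := mono_emb q hM hN
  exact { exact := ShortComplex.exact_of_g_is_cokernel _ (cokernelIsCokernel _) }

theorem isFinLocFree_cokernel_emb : FlatMod.IsFinLocFree (cokernel (emb q)) := by
  have hS := shortExact_emb q hM hN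
  have hH : FlatMod.IsFinLocFree (RefHull.homSh M N) :=
    Groth.LocFree.isFinLocFree_homSh hM (Groth.LocFree.isFinLocFree_of_rank hN)
  haveI := KTheory.LocFree.isQCoh hH
  haveI := KTheory.LocFree.isQCoh hM
  haveI : (Coh.structureModule P).IsQuasicoherent :=
    KTheory.LocFree.isQCoh (Groth.LocFree.isFinLocFree_unit P)
  haveI : (cokernel (emb q)).IsQuasicoherent := inferInstance
  refine Groth.LocFree.isFinLocFree_of_affine_cover fun x => ?_
  obtain ⟨U, g, m, hU, hx, hm, hg⟩ := exists_local q hM hN x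
  obtain ⟨hinj, hex, hsurj⟩ := ExtFilt.sections_exact (S := ShortComplex.mk _ _ (cokernel.condition _)) hS hU
  obtain ⟨_, _⟩ := Groth.LocFree.finite_projective_sections hH hU
  have hb := hg U le_rfl
  simp only [Groth.PicAux.res_self] at hb
  let b : Γ(P, U) ≃ₗ[Γ(P, U)] Γ(N, U) := LinearEquiv.ofBijective (LinearMap.toSpanSingleton _ _ g) hb
  let r : Γ(RefHull.homSh M N, U) →ₗ[Γ(P, U)] Γ(P, U) :=
    { toFun := fun h => b.symm (secToLin h m)
      map_add' := fun h h' => by rw [Groth.RefRank.secToLin_add, LinearMap.add_apply, map_add]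
      map_smul' := fun a h => by rw [Groth.RefRank.secToLin_smul, LinearMap.smul_apply, map_smul, RingHom.id_apply] }
  let s : Γ(RefHull.homSh M N, U) := (emb q).app U (oneSec P U)
  have hr : r s = 1 := by
    show b.symm (secToLin s m) = 1
    rw [secToLin_emb, Groth.PicAux.toFun_oneSec, hm, LinearEquiv.symm_apply_eq]
    rfl
  have hrange : ∀ a : Γ(Coh.structureModule P, U), (emb q).app U a = toFun a • s := fun a => by
    show _ = toFun a • (emb q).app U (oneSec P U)
    rw [← Scheme.Modules.Hom.app_smul]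
    exact congrArg _ (mul_one (toFun a)).symm
  let p : Γ(RefHull.homSh M N, U) →ₗ[Γ(P, U)] LinearMap.ker r :=
    LinearMap.codRestrict _ (LinearMap.id - r.smulRight s) fun h => by simp [hr]
  have hp : p.comp (LinearMap.ker r).subtype = LinearMap.id := LinearMap.ext fun h => Subtype.ext (by
    have := h.2
    simp [p, LinearMap.mem_ker.1 h.2])
  haveI : Module.Finite Γ(P, U) (LinearMap.ker r) :=
    Module.Finite.of_surjective p fun h => ⟨h, LinearMap.congr_fun hp h⟩
  haveI : Module.Projective Γ(P, U) (LinearMap.ker r) := Module.Projective.of_split _ _ hp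
  let π := Groth.QCohMod.appₗ (cokernel.π (emb q)) U
  have hbij : Function.Bijective (π.comp (LinearMap.ker r).subtype) := by
    refine ⟨(injective_iff_map_eq_zero _).2 fun h hh => ?_, fun y => ?_⟩
    · obtain ⟨a, ha⟩ := (hex h.1).1 hh
      have h0 : r h.1 = 0 := h.2
      have ha' : (emb q).app U a = h.1 := ha
      rw [← ha', hrange, map_smul, hr, smul_eq_mul, mul_one] at h0
      refine Subtype.ext ?_
      rw [← ha', hrange, h0, zero_smul]
      rfl
    · obtain ⟨h, rfl⟩ := hsurj y
      refine ⟨p h, ?_⟩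
      show π (h - r h • s) = π h
      have hs0 : π s = 0 := (hex s).2 ⟨oneSec P U, rfl⟩
      rw [map_sub, map_smul, hs0, smul_zero, sub_zero]
  let e := LinearEquiv.ofBijective _ hbij
  exact ⟨U, hU, hx, Module.Finite.equiv e, Module.Projective.of_equiv e⟩

end Groth.KTheory.PBundleK
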