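import Groth.Agent.KTheory.PBundleK.Push
import Groth.Agent.KTheory.TautRel
import Groth.Agent.KTheory.PullLambda

/-!
# `K₀` of a projective bundle is free on the powers of `[O(1)]`
-/

set_option autoImplicit false
universe v u

open CategoryTheory CategoryTheory.Limits AlgebraicGeometry TopologicalSpace Opposite

namespace Groth.KTheory.PBundleK

open Groth.KTheory Groth.KTheory.RegKoszul Groth.CohBase Groth.KTheory.LambdaVb

variable {X P : Scheme.{u}} {π : P ⟶ X} {E : X.Modules} {O1 : P.Modules} {n : ℕ}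

/-- The counit. -/
noncomputable abbrev cu (π : P ⟶ X) (F : P.Modules) :
    (Scheme.Modules.pullback π).obj ((Scheme.Modules.pushforward π).obj F) ⟶ F :=
  (Scheme.Modules.pullbackPushforwardAdjunction π).counit.app F

theorem Chart.exists_cu_iso (c : Chart π E O1 n) (F : P.Modules) :
    ∃ e : (Scheme.Modules.pullback c.ψ).obj ((Scheme.Modules.pullback π).obj ((Scheme.Modules.pushforward π).obj F)) ≅
        (Scheme.Modules.pullback (KRR.pr n (c.V : Scheme.{u}))).obj
          ((Scheme.Modules.pushforward (KRR.pr n (c.V : Scheme.{u}))).obj ((Scheme.Modules.pullback c.ψ).obj F)),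
      e.hom ≫ cou ((Scheme.Modules.pullback c.ψ).obj F) = (Scheme.Modules.pullback c.ψ).map (cu π F) := by
  haveI := c.isIso_bcG F
  refine ⟨((Scheme.Modules.pullbackComp c.ψ π).app _) ≪≫ (Scheme.Modules.pullbackCongr c.w).app _ ≪≫
    ((Scheme.Modules.pullbackComp _ c.V.ι).app _).symm ≪≫
    (Scheme.Modules.pullback _).mapIso (asIso (bcG c.w F)), ?_⟩
  simp only [Iso.trans_hom, Category.assoc, Functor.mapIso_hom, asIso_hom]
  rw [show (Scheme.Modules.pullback (KRR.pr n (c.V : Scheme.{u}))).map (bcG c.w F) ≫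
    cou ((Scheme.Modules.pullback c.ψ).obj F) = bcPre c.w F from bcG_counit c.w F]
  simp [bcPre, Scheme.Modules.pullbackCongr]

variable (A : Atlas π E O1 n)

/-- Regular on all charts. -/
def RegA (F : P.Modules) : Prop :=
  FlatMod.IsFinLocFree F ∧
    ∀ i, KRR.IsRegSheaf n ((A.c i).V : Scheme.{u}) ((Scheme.Modules.pullback (A.c i).ψ).obj F)

/-- The sequence of twisted kernels of the counit. -/
noncomputable def seqA (π : P ⟶ X) (O1 : P.Modules) (F : P.Modules) : ℕ → P.Modules
  | 0 => F
  | k + 1 => twA O1 1 (kernel (cu π (seqA π O1 F k)))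

theorem nonempty_seqA (c : Chart π E O1 n) (F : P.Modules) :
    ∀ k, Nonempty ((Scheme.Modules.pullback c.ψ).obj (seqA π O1 F k) ≅
      seqG ((Scheme.Modules.pullback c.ψ).obj F) k)
  | 0 => by rw [seqA, seqG]; exact ⟨Iso.refl _⟩
  | k + 1 => by
    obtain ⟨s⟩ := nonempty_seqA c F k
    obtain ⟨e, he⟩ := c.exists_cu_iso (seqA π O1 F k)
    let T : Scheme.{u} := c.V
    let K1 : (Scheme.Modules.pullback c.ψ).obj (kernel (cu π (seqA π O1 F k))) ≅
        kernel ((Scheme.Modules.pullback c.ψ).map (cu π (seqA π O1 F k))) := PreservesKernel.iso _ _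
    let K2 : kernel ((Scheme.Modules.pullback c.ψ).map (cu π (seqA π O1 F k))) ≅
        kernel (cou (seqG ((Scheme.Modules.pullback c.ψ).obj F) k)) :=
      kernel.mapIso _ _ (e ≪≫ (Scheme.Modules.pullback (KRR.pr n T)).mapIso
        ((Scheme.Modules.pushforward (KRR.pr n T)).mapIso s)) s (by
          rw [← he, Iso.trans_hom, Category.assoc, Category.assoc]
          congr 1
          exact ((Scheme.Modules.pullbackPushforwardAdjunction (KRR.pr n T)).counit.naturality s.hom).symm)
    rw [seqA, seqG]
    exact ⟨(c.nonempty_twA 1 _).some ≪≫ (twF_iso (1 : ℤ) (K1 ≪≫ K2)).some⟩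

variable {A}

theorem RegA.datA {F : P.Modules} (h : RegA A F) : DatA A 0 F :=
  ⟨h.1, fun i => dat_of_regular (Groth.LocFree.isFinLocFree_pullback _ h.1) (h.2 i)⟩

theorem epi_cu {F : P.Modules} (h : RegA A F) : Epi (cu π F) := by
  refine epi_of_charts (fun i => (A.c i).ψ) A.mem_range _ fun i => ?_
  obtain ⟨e, he⟩ := (A.c i).exists_cu_iso F
  haveI := epi_counit _ (LocFree.isQCoh (Groth.LocFree.isFinLocFree_pullback (A.c i).ψ h.1)) (h.2 i)
  rw [← he]
  exact epi_comp _ _

theorem isFinLocFree_ker_cu {F : P.Modules} (h : RegA A F) : FlatMod.IsFinLocFree (kernel (cu π F)) := by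
  haveI := epi_cu h
  exact Groth.LocFree.isFinLocFree_left (Groth.KTheory.Resolution.shortExact_kernel (cu π F))
    (Groth.LocFree.isFinLocFree_pullback _ (isFinLocFree_pushA h.datA)) h.1

theorem isFinLocFree_O1pow (hO : FlatMod.IsFinLocFree O1) : ∀ a : ℕ, FlatMod.IsFinLocFree (CohB1.tensorPow O1 a)
  | 0 => Groth.LocFree.isFinLocFree_unit P
  | a + 1 => Groth.LocFree.isFinLocFree_tensorMod (isFinLocFree_O1pow hO a) hO

theorem regA_seqA (hO : FlatMod.IsFinLocFree O1) {F : P.Modules} (h : RegA A F) :
    ∀ k, RegA A (seqA π O1 F k)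
  | 0 => by rw [seqA]; exact h
  | k + 1 => by
    have ih := regA_seqA hO h k
    have hf : FlatMod.IsFinLocFree (seqA π O1 F (k + 1)) := by
      rw [seqA]
      exact Groth.LocFree.isFinLocFree_tensorMod (isFinLocFree_O1pow hO 1) (isFinLocFree_ker_cu ih)
    refine ⟨hf, fun i => ?_⟩
    obtain ⟨h1, h2⟩ := seqG_reg (LocFree.isQCoh (Groth.LocFree.isFinLocFree_pullback (A.c i).ψ h.1)) (h.2 i) (k + 1)
    exact isRegSheaf_iso (nonempty_seqA (A.c i) F (k + 1)).some.symm h1 h2

theorem isZero_seqA {F : P.Modules} (h : RegA A F) : IsZero (seqA π O1 F (n + 1)) :=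
  isZero_of_charts (fun i => (A.c i).ψ) A.mem_range fun i =>
    (isZero_seqG (LocFree.isQCoh (Groth.LocFree.isFinLocFree_pullback (A.c i).ψ h.1)) (h.2 i) (n + 1)
      (Nat.lt_succ_self n)).of_iso (nonempty_seqA (A.c i) F (n + 1)).some

theorem exists_regA_twA [IsNoetherian X] (hO : FlatMod.IsFinLocFree O1) {F : P.Modules}
    (hF : FlatMod.IsFinLocFree F) : ∃ d : ℕ, RegA A (twA O1 d F) := by
  have h := fun i => exists_regAt (n := n) (T := ((A.c i).V : Scheme.{u}))
    (Groth.LocFree.isFinLocFree_pullback (A.c i).ψ hF)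
  choose d hd using h
  refine ⟨Finset.univ.sup d, Groth.LocFree.isFinLocFree_tensorMod (isFinLocFree_O1pow hO _) hF, fun i => ?_⟩
  exact isRegSheaf_iso ((A.c i).nonempty_twA _ F).some.symm
    (RegSheaf.isQCoh_twF _ (LocFree.isQCoh (Groth.LocFree.isFinLocFree_pullback (A.c i).ψ hF)))
    (regAt_mono (Finset.le_sup (Finset.mem_univ i)) (hd i)).2

/-! ## The theorem -/

section Main

variable [IsNoetherian X] [ConnectedSpace ↥P]
  {q : (Scheme.Modules.pullback π).obj E ⟶ O1}
  (hE : FlatMod.IsFinLocFreeOfRank (n + 1) E) (hPB : KRR.IsProjBundle π E O1 q)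
  {KX : Type v} [CommRing KX] [LambdaRing.LambdaOps KX] {PX : LambdaRing.PosStructure KX}
  {φX : SGA6.Kvb X →+ KX} (hKX : KRR.IsModel X KX PX φX)
  {KP : Type v} [CommRing KP] [LambdaRing.LambdaOps KP] {PP : LambdaRing.PosStructure KP}
  {φP : SGA6.Kvb P →+ KP} (hKP : KRR.IsModel P KP PP φP)
  (g : KX →+ KP) (hg : KRR.IsPull π φX φP g)

include hE hPB hKX hKP hg

theorem bijective_powers :
    Function.Bijective (fun a : Fin (n + 1) → KX => ∑ i : Fin (n + 1), g (a i) * φP (KRR.cl P O1) ^ (i : ℕ)) := by
  obtain ⟨Q, -, -, hQ⟩ := PullLambda.exists_lambdaHom π hKP hKX hg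
  obtain ⟨A⟩ := exists_atlas hE hPB
  have hO := Groth.LocFree.isFinLocFree_of_rank hPB.invertible
  obtain ⟨L, hLi, hL⟩ := PicAux.exists_isInverseOf (Groth.LocFree.isInvertible_iff_ofRank_one.2 hPB.invertible)
  have hLf := Groth.LocFree.isFinLocFree_of_rank (Groth.LocFree.isInvertible_iff_ofRank_one.1 hLi)
  set l := φP (KRR.cl P O1) with hldef
  set m := φP (KRR.cl P L) with hmdef
  have hml : l * m = 1 := by
    rw [hldef, hmdef, hKP.map_mul O1 L hO hLf, ← hKP.map_one]
    exact congrArg φP (kcl_iso hL.some (Groth.LocFree.isFinLocFree_tensorMod hO hLf))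
  have hLpow : ∀ k : ℕ, m ^ k = φP (KRR.cl P (CohB1.tensorPow L k)) := by
    intro k
    induction k with
    | zero => rw [pow_zero, ← hKP.map_one]; rfl
    | succ k ih => rw [pow_succ, ih]; exact hKP.map_mul _ _ (isFinLocFree_O1pow hLf k) hLf
  have hOpow : ∀ k : ℕ, l ^ k = φP (KRR.cl P (CohB1.tensorPow O1 k)) := by
    intro k
    induction k with
    | zero => rw [pow_zero, ← hKP.map_one]; rfl
    | succ k ih => rw [pow_succ, ih]; exact hKP.map_mul _ _ (isFinLocFree_O1pow hO k) hO
  let Φ : (Fin (n + 1) → KX) →+ KP :=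
    AddMonoidHom.mk' (fun a => ∑ i : Fin (n + 1), g (a i) * l ^ (i : ℕ)) fun a b => by
      simp [add_mul, Finset.sum_add_distrib]
  show Function.Bijective Φ
  refine ⟨(injective_iff_map_eq_zero _).2 fun a ha => ?_, ?_⟩
  · obtain ⟨h, hh⟩ := exists_pushHom hE hPB A
    let eP := AddEquiv.ofBijective φP hKP.bijective
    let h0 : KP →+ KX := φX.comp (h.comp eP.symm.toAddMonoidHom)
    have h0cl : ∀ F, h0 (φP (KRR.cl P F)) = φX (h (KRR.cl P F)) := fun F =>
      congrArg (fun t => φX (h t)) (eP.symm_apply_apply _)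
    have hval : ∀ (k : ℕ), k ≤ n → ∀ b : KX, h0 (g b * m ^ k) = if k = 0 then b else 0 := by
      intro k hk b
      obtain ⟨b₀, rfl⟩ := hKX.bijective.2 b
      induction b₀ using k0sub_induction with
      | h0 => simp
      | hadd x y hx hy => rw [map_add, map_add, add_mul, map_add, hx, hy]; split_ifs <;> simp
      | hneg x hx => rw [map_neg, map_neg, neg_mul, map_neg, hx]; split_ifs <;> simp
      | hcl W hW =>
        have hW' := Groth.LocFree.isFinLocFree_pullback π hW
        show h0 (g (φX (KRR.cl X W)) * m ^ k) = if k = 0 then φX (KRR.cl X W) else 0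
        rw [hg W hW, mul_comm, hLpow, hKP.map_mul _ _ (isFinLocFree_O1pow hLf k) hW']
        refine (h0cl _).trans ?_
        refine (congrArg φX (hh _ (datA_negTw hL hLf hk hW))).trans ?_
        split_ifs with h0
        · subst h0
          obtain ⟨e⟩ := nonempty_push_pullback A hW
          exact congrArg φX (kcl_iso (e ≪≫ (Scheme.Modules.pushforward π).mapIso
            (PicAux.exists_leftUnitor _).choose.symm) hW).symm
        · have hz := isZero_push_negTw A hL (Nat.one_le_iff_ne_zero.2 h0) hk hW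
          exact (congrArg φX (KvbModel.kcl_zero hz)).trans (map_zero φX)
    have key : ∀ d : ℕ, ∀ i : Fin (n + 1), n + 1 ≤ (i : ℕ) + d → a i = 0 := by
      intro d
      induction d with
      | zero => intro i hi; exact absurd i.2 (by omega)
      | succ d ih =>
        intro i hi
        have e : h0 (Φ a * m ^ (i : ℕ)) = a i := by
          show h0 ((∑ j : Fin (n + 1), g (a j) * l ^ (j : ℕ)) * m ^ (i : ℕ)) = a i
          rw [Finset.sum_mul, map_sum, Finset.sum_eq_single i]
          · rw [mul_assoc, ← mul_pow, hml, one_pow, ← pow_zero m, hval 0 (Nat.zero_le n), if_pos rfl]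
          · intro j _ hji
            rcases lt_or_gt_of_ne hji with hj | hj
            · have hj' : (j : ℕ) < (i : ℕ) := hj
              rw [show g (a j) * l ^ (j : ℕ) * m ^ (i : ℕ) = g (a j) * m ^ ((i : ℕ) - j) by
                rw [mul_assoc]
                congr 1
                conv_lhs => rw [show (i : ℕ) = j + ((i : ℕ) - j) by omega, pow_add, ← mul_assoc, ← mul_pow, hml,
                  one_pow, one_mul],
                hval _ (by omega), if_neg (by omega)]
            · have hj' : (i : ℕ) < (j : ℕ) := hj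
              rw [ih j (by omega), map_zero, zero_mul, zero_mul, map_zero]
          · simp
        rw [← e, ha, zero_mul, map_zero]
    exact funext fun i => key (n + 1) i (by omega)
  · let B : AddSubgroup KP := Φ.range
    have hB : ∀ (b : KX) (i : ℕ), i ≤ n → g b * l ^ i ∈ B := fun b i hi => by
      refine ⟨Pi.single ⟨i, Nat.lt_succ_of_le hi⟩ b, ?_⟩
      show ∑ j : Fin (n + 1), g ((Pi.single ⟨i, Nat.lt_succ_of_le hi⟩ b : Fin (n + 1) → KX) j) * l ^ (j : ℕ) = _
      rw [Finset.sum_eq_single ⟨i, Nat.lt_succ_of_le hi⟩]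
      · rw [Pi.single_eq_same]
      · intro j _ hj; rw [Pi.single_eq_of_ne hj, map_zero, zero_mul]
      · simp
    have hmulB : ∀ (x : KP), (∀ (b : KX) (i : ℕ), i ≤ n → g b * l ^ i * x ∈ B) → ∀ z ∈ B, z * x ∈ B := by
      rintro x hx z ⟨a, rfl⟩
      show (∑ j : Fin (n + 1), g (a j) * l ^ (j : ℕ)) * x ∈ B
      rw [Finset.sum_mul]
      exact sum_mem fun j _ => hx _ _ (Nat.le_of_lt_succ j.2)
    have hQB : ∀ (c : KX), ∀ z ∈ B, z * g c ∈ B := fun c => hmulB _ fun b i hi => by
      rw [show g b * l ^ i * g c = Q (b * c) * l ^ i by rw [map_mul, hQ, hQ]; ring, hQ]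
      exact hB _ _ hi
    have hgone : g 1 = 1 := by rw [← hQ, map_one]
    have h1B : (1 : KP) ∈ B := by simpa [hgone] using hB 1 0 (Nat.zero_le n)
    set e := φX (KRR.cl X E) with hedef
    have htaut := TautRel.tautological_relation hE π O1 q hPB hKX hKP g hg
    rw [← hldef, ← hedef] at htaut
    have hlB : ∀ z ∈ B, z * l ∈ B := by
      have htop : l ^ (n + 1) ∈ B := by
        rw [Finset.sum_range_succ'] at htaut
        simp only [pow_zero, one_mul, Nat.sub_zero, LambdaRing.LambdaOps.lam_zero, hgone] at htaut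
        rw [show l ^ (n + 1) = -∑ i ∈ Finset.range (n + 1), (-1 : KP) ^ (i + 1) *
          g (LambdaRing.LambdaOps.lam (i + 1) e) * l ^ (n + 1 - (i + 1)) by linear_combination htaut]
        refine neg_mem (sum_mem fun i _ => ?_)
        have hh := hB (LambdaRing.LambdaOps.lam (i + 1) e) (n - i) (Nat.sub_le n i)
        rw [mul_assoc, show n + 1 - (i + 1) = n - i by omega]
        rcases neg_one_pow_eq_or KP (i + 1) with h' | h' <;> rw [h']
        · simpa using hh
        · simpa using neg_mem hh
      refine hmulB _ fun b i hi => ?_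
      rw [mul_assoc, ← pow_succ]
      rcases Nat.lt_or_ge i n with hi' | hi'
      · exact hB b _ hi'
      · obtain rfl : i = n := le_antisymm hi hi'
        rw [mul_comm]
        exact hQB b _ htop
    have hmB : ∀ z ∈ B, z * m ∈ B := by
      obtain ⟨D, hDi, hD⟩ := PicAux.exists_isInverseOf
        (Groth.LocFree.isInvertible_iff_ofRank_one.2
          (by
            have := Groth.LocFree.isFinLocFreeOfRank_extPow hE (n + 1)
            rwa [Nat.choose_self] at this) : PicF.IsInvertible (Groth.LocFree.extPow (n + 1) E))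
      have hEf := Groth.LocFree.isFinLocFree_of_rank hE
      haveI := LocFree.isQCoh hEf
      have hDf := Groth.LocFree.isFinLocFree_of_rank (Groth.LocFree.isInvertible_iff_ofRank_one.1 hDi)
      have hΛ := Groth.LocFree.isFinLocFree_extPow hEf (n + 1)
      have hdet : g (LambdaRing.LambdaOps.lam (n + 1) e) * g (φX (KRR.cl X D)) = 1 := by
        rw [← hQ, ← hQ, ← map_mul, hedef, hKX.map_lam (n + 1) E _ hEf hΛ (Groth.LocFree.isExtPow_extPow _ E),
          hKX.map_mul _ _ hΛ hDf]
        exact (congrArg Q ((congrArg φX (kcl_iso hD.some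
          (Groth.LocFree.isFinLocFree_tensorMod hΛ hDf))).trans hKX.map_one)).trans (map_one Q)
      have hm1 : m ∈ B := by
        rw [Finset.sum_range_succ, Nat.sub_self, pow_zero, mul_one] at htaut
        have hs : ∑ i ∈ Finset.range (n + 1), (-1 : KP) ^ i * g (LambdaRing.LambdaOps.lam i e) * l ^ (n + 1 - i) =
            l * ∑ i ∈ Finset.range (n + 1), (-1 : KP) ^ i * g (LambdaRing.LambdaOps.lam i e) * l ^ (n - i) := by
          rw [Finset.mul_sum]
          refine Finset.sum_congr rfl fun i hi => ?_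
          rw [Finset.mem_range] at hi
          rw [show n + 1 - i = (n - i) + 1 by omega, pow_succ]
          ring
        rw [hs] at htaut
        have hsgn : ((-1 : KP) ^ (n + 1)) * (-1) ^ (n + 1) = 1 := by rw [← mul_pow]; simp
        set S := ∑ i ∈ Finset.range (n + 1), (-1 : KP) ^ i * g (LambdaRing.LambdaOps.lam i e) * l ^ (n - i)
        rw [show m = -((-1 : KP) ^ (n + 1) * S) * g (φX (KRR.cl X D)) by
          linear_combination ((-1 : KP) ^ (n + 1) * g (φX (KRR.cl X D)) * m) * htaut +
            (-((-1 : KP) ^ (n + 1) * S * g (φX (KRR.cl X D)))) * hml +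
            (-(m * g (LambdaRing.LambdaOps.lam (n + 1) e) * g (φX (KRR.cl X D)))) * hsgn + (-m) * hdet]
        refine hQB _ _ (neg_mem ?_)
        rw [Finset.mul_sum]
        refine sum_mem fun i _ => ?_
        have hh := hB (LambdaRing.LambdaOps.lam i e) (n - i) (Nat.sub_le n i)
        rw [← mul_assoc, ← mul_assoc, ← pow_add, mul_assoc]
        rcases neg_one_pow_eq_or KP (n + 1 + i) with h' | h' <;> rw [h']
        · simpa using hh
        · simpa using neg_mem hh
      refine hmulB _ fun b i hi => ?_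
      rcases i with _ | i
      · rw [pow_zero, mul_one, mul_comm]
        exact hQB b _ hm1
      · rw [pow_succ, mul_assoc, mul_assoc, hml, mul_one]
        exact hB b i (by omega)
    have hpowB : ∀ (z : KP), z ∈ B → ∀ a : ℕ, z * l ^ a ∈ B ∧ z * m ^ a ∈ B := fun z hz a => by
      induction a with
      | zero => simpa using hz
      | succ a ih => rw [pow_succ, pow_succ, ← mul_assoc, ← mul_assoc]; exact ⟨hlB _ ih.1, hmB _ ih.2⟩
    have hreg : ∀ F, RegA A F → φP (KRR.cl P F) ∈ B := by
      intro F hF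
      have key : ∀ d k : ℕ, k + d = n + 1 → φP (KRR.cl P (seqA π O1 F k)) ∈ B := by
        intro d
        induction d with
        | zero =>
          intro k hk
          obtain rfl : k = n + 1 := hk
          rw [show KRR.cl P (seqA π O1 F (n + 1)) = (0 : SGA6.Kvb P) from KvbModel.kcl_zero (isZero_seqA hF), map_zero]
          exact zero_mem _
        | succ d ih =>
          intro k hk
          have hk0 := regA_seqA hO hF k
          have hker := isFinLocFree_ker_cu hk0
          have hpush := isFinLocFree_pushA hk0.datA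
          haveI := epi_cu hk0
          have hrel : φP (KRR.cl P ((Scheme.Modules.pullback π).obj ((Scheme.Modules.pushforward π).obj (seqA π O1 F k)))) =
              φP (KRR.cl P (kernel (cu π (seqA π O1 F k)))) + φP (KRR.cl P (seqA π O1 F k)) :=
            (congrArg φP (clSub_rel (P := KRR.vbP P) _
              (Groth.KTheory.Resolution.shortExact_kernel (cu π (seqA π O1 F k))) hker
              (Groth.LocFree.isFinLocFree_pullback _ hpush) hk0.1)).trans (map_add φP _ _)
          have hsucc : φP (KRR.cl P (seqA π O1 F (k + 1))) = l * φP (KRR.cl P (kernel (cu π (seqA π O1 F k)))) := by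
            rw [seqA, ← pow_one l, hOpow]
            exact (hKP.map_mul _ _ (isFinLocFree_O1pow hO 1) hker).symm
          have h3 := hmB _ (ih (k + 1) (by omega))
          rw [hsucc, mul_comm l, mul_assoc, hml, mul_one] at h3
          rw [show φP (KRR.cl P (seqA π O1 F k)) =
              φP (KRR.cl P ((Scheme.Modules.pullback π).obj ((Scheme.Modules.pushforward π).obj (seqA π O1 F k)))) -
                φP (KRR.cl P (kernel (cu π (seqA π O1 F k)))) by rw [hrel]; abel]
          refine sub_mem ?_ h3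
          rw [← hg _ hpush]
          simpa using hB _ 0 (Nat.zero_le n)
      simpa [seqA] using key (n + 1) 0 (zero_add _)
    intro z
    show z ∈ B
    obtain ⟨z₀, rfl⟩ := hKP.bijective.2 z
    induction z₀ using k0sub_induction with
    | h0 => rw [map_zero]; exact zero_mem _
    | hadd x y hx hy => rw [map_add]; exact add_mem hx hy
    | hneg x hx => rw [map_neg]; exact neg_mem hx
    | hcl F hF =>
      show φP (KRR.cl P F) ∈ B
      obtain ⟨d, hd⟩ := exists_regA_twA (A := A) hO hF
      have h1 := (hpowB _ (hreg _ hd) d).2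
      rwa [show φP (KRR.cl P (twA O1 d F)) = l ^ d * φP (KRR.cl P F) by
        rw [hOpow]; exact (hKP.map_mul _ _ (isFinLocFree_O1pow hO d) hF).symm,
        mul_right_comm, ← mul_pow, hml, one_pow, one_mul] at h1

end Main

end Groth.KTheory.PBundleK
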