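import Groth.Agent.KTheory.PBundleK.Chart
import Groth.Agent.KTheory.PBundleK.Dat
import Groth.Agent.KTheory.PBundleK.Embed
import Groth.Agent.DerivedCoh.Fibre.Concentrated

/-!
# The push-forward on `K₀` of a projective bundle
-/

set_option autoImplicit false
universe u

open CategoryTheory CategoryTheory.Limits AlgebraicGeometry TopologicalSpace Opposite
open Groth.PicAux (Basis' Split')

namespace Groth.KTheory.PBundleK

open Groth.KTheory Groth.KTheory.RegKoszul Groth.CohBase Groth.KTheory.LambdaVb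

variable {X P : Scheme.{u}} {π : P ⟶ X} {E : X.Modules} {O1 : P.Modules} {n : ℕ}

theorem isIso_of_charts {ι : Type*} {Z : Scheme.{u}} {Y : ι → Scheme.{u}} (j : ∀ i, Y i ⟶ Z)
    [∀ i, IsOpenImmersion (j i)] (hj : ∀ z : Z, ∃ i, z ∈ (j i).opensRange) {M N : Z.Modules} (φ : M ⟶ N)
    (h : ∀ i, IsIso ((Scheme.Modules.pullback (j i)).map φ)) : IsIso φ := by
  refine Groth.QCohMod.isIso_of_stalk φ ?_
  intro z
  obtain ⟨i, y, rfl⟩ := hj z
  have := h i
  have h1 : IsIso ((Scheme.Modules.restrictFunctor (j i)).map φ) :=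
    (NatIso.isIso_map_iff (Scheme.Modules.restrictFunctorIsoPullback (j i)) φ).2 this
  exact (NatIso.isIso_map_iff (Scheme.Modules.restrictStalkNatIso (j i) y) φ).1
    (inferInstanceAs (IsIso ((Groth.QCohMod.stalk y).map ((Scheme.Modules.restrictFunctor (j i)).map φ))))

section Nat

variable {T : Scheme.{u}} {j : T ⟶ X} {ψ : KRR.PY n T ⟶ P} (w : ψ ≫ π = KRR.pr n T ≫ j)

theorem bcPre_naturality {M N : P.Modules} (g : M ⟶ N) :
    (Scheme.Modules.pullback (KRR.pr n T)).map ((Scheme.Modules.pullback j).map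
      ((Scheme.Modules.pushforward π).map g)) ≫ bcPre w N = bcPre w M ≫ (Scheme.Modules.pullback ψ).map g := by
  have h1 := (Scheme.Modules.pullbackComp (KRR.pr n T) j).hom.naturality ((Scheme.Modules.pushforward π).map g)
  have h2 := (Scheme.Modules.pullbackCongr w.symm).hom.naturality ((Scheme.Modules.pushforward π).map g)
  have h3 := (Scheme.Modules.pullbackComp ψ π).inv.naturality ((Scheme.Modules.pushforward π).map g)
  have h4 := (Scheme.Modules.pullbackPushforwardAdjunction π).counit.naturality g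
  simp only [Functor.comp_map, Functor.id_map] at h1 h2 h3 h4
  simp only [bcPre, Category.assoc]
  rw [reassoc_of% h1, reassoc_of% h2, reassoc_of% h3, ← Functor.map_comp, ← Functor.map_comp, h4]

theorem bcG_naturality {M N : P.Modules} (g : M ⟶ N) :
    (Scheme.Modules.pullback j).map ((Scheme.Modules.pushforward π).map g) ≫ bcG w N =
      bcG w M ≫ (Scheme.Modules.pushforward (KRR.pr n T)).map ((Scheme.Modules.pullback ψ).map g) := by
  rw [bcG, bcG, ← Adjunction.homEquiv_naturality_left, ← Adjunction.homEquiv_naturality_right,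
    bcPre_naturality w g]

theorem unit_bcG (W : X.Modules) :
    ∃ a : (Scheme.Modules.pullback (KRR.pr n T)).obj ((Scheme.Modules.pullback j).obj W) ≅
        (Scheme.Modules.pullback ψ).obj ((Scheme.Modules.pullback π).obj W),
      (Scheme.Modules.pullback j).map ((Scheme.Modules.pullbackPushforwardAdjunction π).unit.app W) ≫
          bcG w ((Scheme.Modules.pullback π).obj W) =
        (Scheme.Modules.pullbackPushforwardAdjunction (KRR.pr n T)).unit.app _ ≫
          (Scheme.Modules.pushforward (KRR.pr n T)).map a.hom := by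
  let η := (Scheme.Modules.pullbackPushforwardAdjunction π).unit.app W
  refine ⟨(Scheme.Modules.pullbackComp (KRR.pr n T) j).app W ≪≫ (Scheme.Modules.pullbackCongr w.symm).app W ≪≫
    ((Scheme.Modules.pullbackComp ψ π).app W).symm, ?_⟩
  refine (((Scheme.Modules.pullbackPushforwardAdjunction (KRR.pr n T)).homEquiv_naturality_left
    ((Scheme.Modules.pullback j).map η) (bcPre w ((Scheme.Modules.pullback π).obj W))).symm.trans ?_).trans
    ((Scheme.Modules.pullbackPushforwardAdjunction (KRR.pr n T)).homEquiv_unit _ _ _)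
  congr 1
  have h1 := (Scheme.Modules.pullbackComp (KRR.pr n T) j).hom.naturality η
  have h2 := (Scheme.Modules.pullbackCongr w.symm).hom.naturality η
  have h3 := (Scheme.Modules.pullbackComp ψ π).inv.naturality η
  simp only [Functor.comp_map, Functor.id_map] at h1 h2 h3
  simp only [bcPre, Category.assoc]
  rw [reassoc_of% h1, reassoc_of% h2, reassoc_of% h3, ← Functor.map_comp,
    (Scheme.Modules.pullbackPushforwardAdjunction π).left_triangle_components, CategoryTheory.Functor.map_id,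
    Category.comp_id]
  simp

end Nat

variable (A : Atlas π E O1 n)

theorem Atlas.mem_range_base (x : X) : ∃ i, x ∈ (A.c i).V.ι.opensRange := by
  obtain ⟨i, hi⟩ := A.cover x
  exact ⟨i, by rw [Scheme.Opens.opensRange_ι]; exact hi⟩

/-- All charts satisfy `Dat`. -/
def DatA (d : ℕ) (F : P.Modules) : Prop :=
  FlatMod.IsFinLocFree F ∧ ∀ i, Dat n ((A.c i).V : Scheme.{u}) d ((Scheme.Modules.pullback (A.c i).ψ).obj F)

variable {A}

theorem DatA.of_iso {d : ℕ} {F G : P.Modules} (e : F ≅ G) (h : DatA A d F) : DatA A d G :=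
  ⟨LocFree.isFinLocFree_of_iso e h.1, fun i => (h.2 i).of_iso ((Scheme.Modules.pullback _).mapIso e)⟩

theorem DatA.mono {d d' : ℕ} (hd : d ≤ d') {F : P.Modules} (h : DatA A d F) : DatA A d' F :=
  ⟨h.1, fun i => (h.2 i).mono hd⟩

theorem exists_datA [IsNoetherian X] {F : P.Modules} (hF : FlatMod.IsFinLocFree F) : ∃ d, DatA A d F := by
  have h := fun i => exists_dat (n := n) (T := ((A.c i).V : Scheme.{u}))
    (Groth.LocFree.isFinLocFree_pullback (A.c i).ψ hF)
  choose d hd using h
  exact ⟨Finset.univ.sup d, hF, fun i => (hd i).mono (Finset.le_sup (Finset.mem_univ i))⟩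

theorem isFinLocFree_pushA {F : P.Modules} (h : DatA A 0 F) :
    FlatMod.IsFinLocFree ((Scheme.Modules.pushforward π).obj F) := by
  refine DerivedCoh.Fibre.isFinLocFree_local fun x => ?_
  obtain ⟨i, hi⟩ := A.cover x
  haveI := (A.c i).isIso_bcG F
  exact ⟨(A.c i).V, hi, LocFree.isFinLocFree_of_iso
    ((asIso (bcG (A.c i).w F)).symm ≪≫
      ((Scheme.Modules.restrictFunctorIsoPullback (A.c i).V.ι).app _).symm)
    (isFinLocFree_push (h.2 i).acyP)⟩

theorem shortExact_pushA {S : ShortComplex P.Modules} (hS : S.ShortExact) (h₁ : DatA A 0 S.X₁)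
    (h₂ : DatA A 0 S.X₂) (h₃ : DatA A 0 S.X₃) : (S.map (Scheme.Modules.pushforward π)).ShortExact := by
  haveI := hS.mono_f
  refine ShortComplex.ShortExact.mk' (hS.exact.map_of_mono_of_preservesKernel _ inferInstance inferInstance)
    (@Functor.map_mono _ _ _ _ (Scheme.Modules.pushforward π)
      (Functor.preservesMonomorphisms_of_adjunction (Scheme.Modules.pullbackPushforwardAdjunction π)) _ _ S.f hS.mono_f) ?_
  refine epi_of_charts (fun i => (A.c i).V.ι) A.mem_range_base _ fun i => ?_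
  have hS' := hS.map_of_exact (Scheme.Modules.pullback (A.c i).ψ)
  haveI := (shortExact_push hS' (h₁.2 i).acyP (h₂.2 i).1 (h₃.2 i).1).epi_g
  haveI := (A.c i).isIso_bcG S.X₂
  haveI := (A.c i).isIso_bcG S.X₃
  haveI : Epi ((Scheme.Modules.pushforward (KRR.pr n ((A.c i).V : Scheme.{u}))).map
      ((Scheme.Modules.pullback (A.c i).ψ).map S.g)) :=
    inferInstanceAs (Epi ((S.map (Scheme.Modules.pullback (A.c i).ψ)).map
      (Scheme.Modules.pushforward (KRR.pr n ((A.c i).V : Scheme.{u})))).g)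
  haveI : Epi ((Scheme.Modules.pullback (A.c i).V.ι).map ((Scheme.Modules.pushforward π).map S.g) ≫
      bcG (A.c i).w S.X₃) := by
    rw [bcG_naturality]; infer_instance
  show Epi ((Scheme.Modules.pullback (A.c i).V.ι).map ((Scheme.Modules.pushforward π).map S.g))
  exact ((MorphismProperty.epimorphisms _).cancel_right_of_respectsIso _ (bcG (A.c i).w S.X₃)).1
    (show Epi _ from inferInstance)

/-- The class of the direct image. -/
noncomputable def pushA (π : P ⟶ X) (F : P.Modules) : SGA6.Kvb X :=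
  KRR.cl X ((Scheme.Modules.pushforward π).obj F)

theorem pushA_add {S : ShortComplex P.Modules} (hS : S.ShortExact) (h₁ : DatA A 0 S.X₁)
    (h₂ : DatA A 0 S.X₂) (h₃ : DatA A 0 S.X₃) : pushA π S.X₂ = pushA π S.X₁ + pushA π S.X₃ :=
  clSub_rel _ (shortExact_pushA hS h₁ h₂ h₃) (isFinLocFree_pushA h₁) (isFinLocFree_pushA h₂)
    (isFinLocFree_pushA h₃)

/-! ## Decreasing the twist -/

variable {q : (Scheme.Modules.pullback π).obj E ⟶ O1}

/-- `Hom(π^*E, O(1))`. -/
noncomputable abbrev R0 (π : P ⟶ X) (E : X.Modules) (O1 : P.Modules) : P.Modules :=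
  RefHull.homSh ((Scheme.Modules.pullback π).obj E) O1

variable (hE : FlatMod.IsFinLocFreeOfRank (n + 1) E) (hPB : KRR.IsProjBundle π E O1 q)

include hE hPB

theorem isFinLocFree_R0 : FlatMod.IsFinLocFree (R0 π E O1) :=
  Groth.LocFree.isFinLocFree_homSh (Groth.LocFree.isFinLocFree_pullback π (Groth.LocFree.isFinLocFree_of_rank hE))
    (Groth.LocFree.isFinLocFree_of_rank hPB.invertible)

theorem isFinLocFree_C0 : FlatMod.IsFinLocFree (cokernel (emb q)) := by
  haveI := hPB.epi
  exact isFinLocFree_cokernel_emb q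
    (Groth.LocFree.isFinLocFree_pullback π (Groth.LocFree.isFinLocFree_of_rank hE)) hPB.invertible

theorem exists_emb_seq {F : P.Modules} (hF : FlatMod.IsFinLocFree F) :
    ∃ (f : F ⟶ CohB1.tensorMod (R0 π E O1) F)
      (g : CohB1.tensorMod (R0 π E O1) F ⟶ CohB1.tensorMod (cokernel (emb q)) F) (w : f ≫ g = 0),
      (ShortComplex.mk f g w).ShortExact := by
  haveI := hPB.epi
  have hM := Groth.LocFree.isFinLocFree_pullback π (Groth.LocFree.isFinLocFree_of_rank hE)
  let S := ShortComplex.mk (emb q) (cokernel.π (emb q)) (cokernel.condition _)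
  haveI : S.X₁.IsQuasicoherent := LocFree.isQCoh (Groth.LocFree.isFinLocFree_unit P)
  haveI : S.X₂.IsQuasicoherent := LocFree.isQCoh (isFinLocFree_R0 hE hPB)
  haveI : S.X₃.IsQuasicoherent := LocFree.isQCoh (isFinLocFree_C0 hE hPB)
  exact exists_shortExact_of_iso (LambdaVb.shortExact_tensor hF (shortExact_emb q hM hPB.invertible))
    (SecTwist.unitorR F).symm (PicAux.exists_braiding _ _).choose (PicAux.exists_braiding _ _).choose

theorem nonempty_pullback_R0 (c : Chart π E O1 n) :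
    Nonempty ((Scheme.Modules.pullback c.ψ).obj (R0 π E O1) ≅
      CohB1.tensorMod (FlatMod.freeMod (KRR.PY n (c.V : Scheme.{u})) (n + 1))
        (Twist.twistOver n (c.V : Scheme.{u}) 1)) := by
  have hM := Groth.LocFree.isFinLocFree_pullback π (Groth.LocFree.isFinLocFree_of_rank hE)
  haveI := LocFree.isQCoh hM
  obtain ⟨e, he⟩ := c.basis
  have h1 := (he.pull π).pull c.ψ
  have htop : (⊤ : (KRR.PY n (c.V : Scheme.{u})).Opens) ≤ c.ψ ⁻¹ᵁ (π ⁻¹ᵁ c.V) := fun z _ =>
    show c.ψ z ∈ π ⁻¹ᵁ c.V from c.range ▸ ⟨z, rfl⟩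
  obtain ⟨d, -⟩ := (h1.res' htop).exists_split
  obtain ⟨eD⟩ := nonempty_pullback_dual c.ψ ((Scheme.Modules.pullback π).obj E) d
  haveI := CohTwo.LocFreeDual.isIso_theta hM O1
  exact ⟨(Scheme.Modules.pullback c.ψ).mapIso
      (asIso (CohTwo.LocFreeDual.theta ((Scheme.Modules.pullback π).obj E) O1)).symm ≪≫
    (PicAux.exists_pullback_tensorMod c.ψ _ _).choose ≪≫ PicGrp.tensorModIso eD c.twist.some⟩

theorem datA_R0 {d : ℕ} {F : P.Modules} (h : DatA A (d + 1) F) :
    DatA A d (CohB1.tensorMod (R0 π E O1) F) := by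
  refine ⟨Groth.LocFree.isFinLocFree_tensorMod (isFinLocFree_R0 hE hPB) h.1, fun i => ?_⟩
  obtain ⟨e⟩ := nonempty_pullback_R0 hE hPB (A.c i)
  refine ((h.2 i).twist.tensor_free (n + 1)).of_iso ?_
  exact (PicAux.exists_braiding _ _).choose ≪≫ (PicAux.exists_associator _ _ _).choose.symm ≪≫
    PicGrp.tensorModIso e.symm (Iso.refl _) ≪≫ (PicAux.exists_pullback_tensorMod _ _ _).choose.symm

theorem datA_C0 {d : ℕ} {F : P.Modules} (h : DatA A (d + 1) F) :
    DatA A d (CohB1.tensorMod (cokernel (emb q)) F) := by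
  obtain ⟨f, g, w, hS⟩ := exists_emb_seq hE hPB h.1
  refine ⟨Groth.LocFree.isFinLocFree_tensorMod (isFinLocFree_C0 hE hPB) h.1, fun i => ?_⟩
  exact Dat.right (hS.map_of_exact (Scheme.Modules.pullback (A.c i).ψ))
    (Groth.LocFree.isFinLocFree_pullback _
      (Groth.LocFree.isFinLocFree_tensorMod (isFinLocFree_C0 hE hPB) h.1))
    (h.2 i) ((datA_R0 hE hPB h).2 i)

omit hE hPB in
/-- The push-forward extended by decreasing the twist. -/
noncomputable def chiA (π : P ⟶ X) (q : (Scheme.Modules.pullback π).obj E ⟶ O1) :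
    ℕ → P.Modules → SGA6.Kvb X
  | 0, F => pushA π F
  | d + 1, F => chiA π q d (CohB1.tensorMod (R0 π E O1) F) -
      chiA π q d (CohB1.tensorMod (cokernel (emb q)) F)

theorem chiA_add : ∀ (d : ℕ) (S : ShortComplex P.Modules), S.ShortExact →
    DatA A d S.X₁ → DatA A d S.X₂ → DatA A d S.X₃ → chiA π q d S.X₂ = chiA π q d S.X₁ + chiA π q d S.X₃
  | 0, _, hS, h₁, h₂, h₃ => pushA_add hS h₁ h₂ h₃
  | d + 1, S, hS, h₁, h₂, h₃ => by
    haveI := LocFree.isQCoh h₁.1
    haveI := LocFree.isQCoh h₂.1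
    haveI := LocFree.isQCoh h₃.1
    have eR := chiA_add d _ (LambdaVb.shortExact_tensor (isFinLocFree_R0 hE hPB) hS)
      (datA_R0 hE hPB h₁) (datA_R0 hE hPB h₂) (datA_R0 hE hPB h₃)
    have eC := chiA_add d _ (LambdaVb.shortExact_tensor (isFinLocFree_C0 hE hPB) hS)
      (datA_C0 hE hPB h₁) (datA_C0 hE hPB h₂) (datA_C0 hE hPB h₃)
    simp only [chiA]
    exact (congrArg₂ (· - ·) eR eC).trans (add_sub_add_comm _ _ _ _)

theorem chiA_succ {d : ℕ} {F : P.Modules} (h : DatA A d F) : chiA π q (d + 1) F = chiA π q d F := by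
  obtain ⟨f, g, w, hS⟩ := exists_emb_seq hE hPB h.1
  have h' := h.mono (Nat.le_succ d)
  have e := chiA_add hE hPB d _ hS h (datA_R0 hE hPB h') (datA_C0 hE hPB h')
  simp only [chiA] at e ⊢
  rw [e, add_sub_cancel_right]

theorem chiA_mono {d d' : ℕ} (hd : d ≤ d') {F : P.Modules} (h : DatA A d F) :
    chiA π q d' F = chiA π q d F := by
  induction hd with
  | refl => rfl
  | @step m hm ih => exact (chiA_succ hE hPB (h.mono hm)).trans ih

theorem exists_pushHom [IsNoetherian X] (A : Atlas π E O1 n) :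
    ∃ h : SGA6.Kvb P →+ SGA6.Kvb X, ∀ F : P.Modules, DatA A 0 F → h (KRR.cl P F) = pushA π F := by
  classical
  let Φ : P.Modules → SGA6.Kvb X := fun F =>
    if hF : ∃ d, DatA A d F then chiA π q (Nat.find hF) F else 0
  have hΦ : ∀ {d : ℕ} {F : P.Modules}, DatA A d F → Φ F = chiA π q d F := by
    intro d F hF
    have hex : ∃ d, DatA A d F := ⟨d, hF⟩
    simp only [Φ, dif_pos hex]
    exact (chiA_mono hE hPB (Nat.find_min' hex hF) (Nat.find_spec hex)).symm
  refine ⟨liftSub (KRR.vbP P) Φ fun S hS h₁ h₂ h₃ => ?_, fun F hF => ?_⟩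
  · obtain ⟨d₁, e₁⟩ := exists_datA (A := A) h₁
    obtain ⟨d₂, e₂⟩ := exists_datA (A := A) h₂
    obtain ⟨d₃, e₃⟩ := exists_datA (A := A) h₃
    have g₁ := e₁.mono (show d₁ ≤ d₁ + d₂ + d₃ by omega)
    have g₂ := e₂.mono (show d₂ ≤ d₁ + d₂ + d₃ by omega)
    have g₃ := e₃.mono (show d₃ ≤ d₁ + d₂ + d₃ by omega)
    rw [hΦ g₁, hΦ g₂, hΦ g₃]
    exact chiA_add hE hPB _ S hS g₁ g₂ g₃
  · exact (liftSub_clSub _ _ hF.1).trans (hΦ hF)

omit hE hPB

/-- `L^{⊗m} ⊗ π^* W`. -/
noncomputable abbrev negTw (π : P ⟶ X) (L : P.Modules) (m : ℕ) (W : X.Modules) : P.Modules :=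
  CohB1.tensorMod (CohB1.tensorPow L m) ((Scheme.Modules.pullback π).obj W)

theorem nonempty_pullback_negTw (c : Chart π E O1 n) {L : P.Modules} (hL : ClSub.IsInverseOf O1 L) (m : ℕ)
    (W : X.Modules) :
    Nonempty ((Scheme.Modules.pullback c.ψ).obj (negTw π L m W) ≅
      KRR.twF n (c.V : Scheme.{u}) (-(m : ℤ)) ((Scheme.Modules.pullback (KRR.pr n (c.V : Scheme.{u}))).obj
        ((Scheme.Modules.pullback c.V.ι).obj W))) :=
  ⟨(PicAux.exists_pullback_tensorMod c.ψ _ _).choose ≪≫ PicGrp.tensorModIso (c.nonempty_inv_pow hL m).some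
    ((Scheme.Modules.pullbackComp c.ψ π).app W ≪≫ (Scheme.Modules.pullbackCongr c.w).app W ≪≫
      ((Scheme.Modules.pullbackComp _ c.V.ι).app W).symm)⟩

theorem datA_negTw {L : P.Modules} (hL : ClSub.IsInverseOf O1 L) (hLf : FlatMod.IsFinLocFree L) {m : ℕ}
    (hm : m ≤ n) {W : X.Modules} (hW : FlatMod.IsFinLocFree W) : DatA A 0 (negTw π L m W) := by
  refine ⟨Groth.LocFree.isFinLocFree_tensorMod ?_ (Groth.LocFree.isFinLocFree_pullback π hW), fun i =>
    (dat_twist_pullback (Groth.LocFree.isFinLocFree_pullback _ hW) hm).of_iso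
      (nonempty_pullback_negTw (A.c i) hL m W).some.symm⟩
  clear hm
  induction m with
  | zero => exact Groth.LocFree.isFinLocFree_unit P
  | succ m ih => exact Groth.LocFree.isFinLocFree_tensorMod ih hLf

theorem isZero_push_negTw (A : Atlas π E O1 n) {L : P.Modules} (hL : ClSub.IsInverseOf O1 L) {m : ℕ}
    (hm1 : 1 ≤ m) (hm : m ≤ n) {W : X.Modules} (hW : FlatMod.IsFinLocFree W) :
    IsZero ((Scheme.Modules.pushforward π).obj (negTw π L m W)) := by
  refine isZero_of_charts (fun i => (A.c i).V.ι) A.mem_range_base fun i => ?_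
  haveI := (A.c i).isIso_bcG (negTw π L m W)
  refine IsZero.of_iso ?_ (asIso (bcG (A.c i).w (negTw π L m W)))
  obtain ⟨e⟩ := nonempty_pullback_negTw (A.c i) hL m W
  refine IsZero.of_iso ?_ ((Scheme.Modules.pushforward _).mapIso e)
  let T : Scheme.{u} := (A.c i).V
  have hV := Groth.LocFree.isFinLocFree_pullback (A.c i).V.ι hW
  have hp := Groth.LocFree.isFinLocFree_pullback (KRR.pr n T) hV
  haveI : (KRR.twF n T (-(m : ℤ)) ((Scheme.Modules.pullback (KRR.pr n T)).obj
      ((Scheme.Modules.pullback (A.c i).V.ι).obj W))).IsQuasicoherent :=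
    RegSheaf.isQCoh_twF _ (LocFree.isQCoh hp)
  haveI := Groth.QCohMod.isQCoh_pushforward (KRR.twF n T (-(m : ℤ)) ((Scheme.Modules.pullback (KRR.pr n T)).obj
      ((Scheme.Modules.pullback (A.c i).V.ι).obj W))) (KRR.pr n T)
  exact isZero_of_sections_cover _ (fun V : T.affineOpens => V.1) (fun V => V.2)
    (iSup_affineOpens_eq_top T) fun V => (hv_zero_iff (W := KRR.pr n T ⁻¹ᵁ V.1) _).1
      (van_twF_pullback' _ (LocFree.isQCoh hV) (i := 0) (Or.inr (by omega)) (Or.inl (by omega)) V.1 V.2)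

theorem nonempty_push_pullback (A : Atlas π E O1 n) {W : X.Modules} (hW : FlatMod.IsFinLocFree W) :
    Nonempty (W ≅ (Scheme.Modules.pushforward π).obj ((Scheme.Modules.pullback π).obj W)) := by
  haveI : IsIso ((Scheme.Modules.pullbackPushforwardAdjunction π).unit.app W) := by
    refine isIso_of_charts (fun i => (A.c i).V.ι) A.mem_range_base _ fun i => ?_
    haveI := (A.c i).isIso_bcG ((Scheme.Modules.pullback π).obj W)
    obtain ⟨a, ha⟩ := unit_bcG (A.c i).w W
    haveI := isIso_unit_pr (n := n) ((Scheme.Modules.pullback (A.c i).V.ι).obj W)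
      (LocFree.isQCoh (Groth.LocFree.isFinLocFree_pullback _ hW))
    haveI : IsIso ((Scheme.Modules.pullback (A.c i).V.ι).map
        ((Scheme.Modules.pullbackPushforwardAdjunction π).unit.app W) ≫
          bcG (A.c i).w ((Scheme.Modules.pullback π).obj W)) := by
      rw [ha]; infer_instance
    exact IsIso.of_isIso_comp_right _ (bcG (A.c i).w ((Scheme.Modules.pullback π).obj W))
  exact ⟨asIso ((Scheme.Modules.pullbackPushforwardAdjunction π).unit.app W)⟩

end Groth.KTheory.PBundleK
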